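import Mathlib.AlgebraicGeometry.Morphisms.FiniteType
import Mathlib.FieldTheory.Finite.Basic
import Mathlib.Algebra.CharP.Lemmas
import Mathlib.Algebra.CharP.Frobenius

/-!
Endomorphisms of varieties over a field that is a union of finite fields have finite orbits on rational points.
-/

set_option autoImplicit false
set_option backward.isDefEq.respectTransparency false
set_option backward.isDefEq.respectTransparency.types false
set_option linter.style.haveILetI false

universe u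

open CategoryTheory AlgebraicGeometry TopologicalSpace

noncomputable section

namespace Groth.Agent.FiniteOrbit

variable {k : Type u} [Field k] {X : Scheme.{u}} (f : X ⟶ Spec (CommRingCat.of k))

/-- Rational points. -/
abbrev Pts : Type u := {x : Spec (CommRingCat.of k) ⟶ X // x ≫ f = 𝟙 _}

variable {f}

/-- The image point. -/
def Pts.pt (x : Pts f) : X := x.1 (IsLocalRing.closedPoint k)

theorem le_preimage (x : Pts f) {U : X.Opens} (h : x.pt ∈ U) : ⊤ ≤ x.1 ⁻¹ᵁ U := fun y _ => by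
  rw [show y = IsLocalRing.closedPoint k from Subsingleton.elim (α := PrimeSpectrum k) _ _]
  exact h

/-- Evaluation of a function at a rational point. -/
def val (x : Pts f) {U : X.Opens} (h : x.pt ∈ U) : Γ(X, U) →+* k :=
  (x.1.appLE U ⊤ (le_preimage x h) ≫ (Scheme.ΓSpecIso (CommRingCat.of k)).hom).hom

theorem val_res (x : Pts f) {U V : X.Opens} (hle : V ≤ U) (h : x.pt ∈ V) (r : Γ(X, U)) :
    val x h ((X.presheaf.map (homOfLE hle).op).hom r) = val x (hle h) r := by
  exact congrArg (Scheme.ΓSpecIso (CommRingCat.of k)).hom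
    (RingHom.congr_fun (congrArg CommRingCat.Hom.hom (x.1.map_appLE (le_preimage x h) (homOfLE hle).op)) r)

theorem val_appLE {τ : X ⟶ X} (x : Pts f) (hτ : τ ≫ f = f) {U V : X.Opens} (hle : V ≤ τ ⁻¹ᵁ U) (h : x.pt ∈ V)
    (r : Γ(X, U)) :
    val (⟨x.1 ≫ τ, by rw [Category.assoc, hτ]; exact x.2⟩ : Pts f) (U := U) (hle h) r =
      val x h ((τ.appLE U V hle).hom r) :=
  congrArg (Scheme.ΓSpecIso (CommRingCat.of k)).hom
    (RingHom.congr_fun (congrArg CommRingCat.Hom.hom (x.1.appLE_comp_appLE τ U V ⊤ hle (le_preimage x h))).symm r)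

/-- Constants. -/
def const (f : X ⟶ Spec (CommRingCat.of k)) (U : X.Opens) : k →+* Γ(X, U) :=
  ((Scheme.ΓSpecIso (CommRingCat.of k)).inv ≫ f.appLE ⊤ U le_top).hom

theorem val_const (x : Pts f) {U : X.Opens} (h : x.pt ∈ U) (c : k) : val x h (const f U c) = c := by
  show (Scheme.ΓSpecIso (CommRingCat.of k)).hom ((x.1.appLE U ⊤ _) ((f.appLE ⊤ U _) _)) = c
  rw [← CommRingCat.comp_apply (f.appLE ⊤ U le_top), Scheme.Hom.appLE_comp_appLE]
  simp [x.2]
  exact RingHom.congr_fun (congrArg CommRingCat.Hom.hom (Scheme.ΓSpecIso (CommRingCat.of k)).inv_hom_id) c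

/-- A point in an affine open is determined by its values. -/
theorem eq_of_val {U : X.Opens} (hU : IsAffineOpen U) (x y : Pts f) (hx : x.pt ∈ U) (hy : y.pt ∈ U)
    (h : ∀ r, val x hx r = val y hy r) : x = y := by
  refine Subtype.ext ?_
  have ht : IsAffineOpen (⊤ : (Spec (CommRingCat.of k)).Opens) := isAffineOpen_top _
  have e : x.1.appLE U ⊤ (le_preimage x hx) = y.1.appLE U ⊤ (le_preimage y hy) :=
    (cancel_mono (Scheme.ΓSpecIso (CommRingCat.of k)).hom).1 (CommRingCat.hom_ext (RingHom.ext h))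
  have h1 := hU.SpecMap_appLE_fromSpec x.1 ht (le_preimage x hx)
  rw [e, hU.SpecMap_appLE_fromSpec y.1 ht (le_preimage y hy)] at h1
  haveI : IsIso ht.fromSpec := by rw [IsAffineOpen.fromSpec_top]; infer_instance
  exact ((cancel_epi ht.fromSpec).1 h1).symm

variable (f)

/-- The points having, in one of the charts, all coordinates in `F`. -/
def ptsIn {ι : Type u} (U : ι → X.Opens) (G : ∀ i, Finset Γ(X, U i)) (F : Set k) : Set (Pts f) :=
  {x | ∃ (i : ι) (h : x.pt ∈ U i), ∀ r ∈ G i, val x h r ∈ F}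

variable {f}

/-- Every function is controlled by finitely many constants. -/
theorem exists_control {U : X.Opens} (G : Finset Γ(X, U))
    (hG : Subring.closure (Set.range (const f U) ∪ G) = ⊤) (r : Γ(X, U)) :
    ∃ C : Finset k, ∀ F : Subfield k, (↑C : Set k) ⊆ F → ∀ (x : Pts f) (h : x.pt ∈ U),
      (∀ s ∈ G, val x h s ∈ F) → val x h r ∈ F := by
  classical
  have hr : r ∈ Subring.closure (Set.range (const f U) ∪ G) := hG ▸ trivial
  induction hr using Subring.closure_induction with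
  | mem s hs =>
    rcases hs with ⟨c, rfl⟩ | hs
    · exact ⟨{c}, fun F hF x h _ => by rw [val_const]; exact hF (by simp)⟩
    · exact ⟨∅, fun F _ x h hx => hx s hs⟩
  | zero => exact ⟨∅, fun F _ x h _ => by rw [map_zero]; exact F.zero_mem⟩
  | one => exact ⟨∅, fun F _ x h _ => by rw [map_one]; exact F.one_mem⟩
  | add a b _ _ ha hb =>
    obtain ⟨C, hC⟩ := ha
    obtain ⟨D, hD⟩ := hb
    refine ⟨C ∪ D, fun F hF x h hx => ?_⟩
    rw [Finset.coe_union, Set.union_subset_iff] at hF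
    rw [map_add]
    exact F.add_mem (hC F hF.1 x h hx) (hD F hF.2 x h hx)
  | neg a _ ha =>
    obtain ⟨C, hC⟩ := ha
    exact ⟨C, fun F hF x h hx => by rw [map_neg]; exact F.neg_mem (hC F hF x h hx)⟩
  | mul a b _ _ ha hb =>
    obtain ⟨C, hC⟩ := ha
    obtain ⟨D, hD⟩ := hb
    refine ⟨C ∪ D, fun F hF x h hx => ?_⟩
    rw [Finset.coe_union, Set.union_subset_iff] at hF
    rw [map_mul]
    exact F.mul_mem (hC F hF.1 x h hx) (hD F hF.2 x h hx)

/-- Generators of an affine open over the field. -/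
theorem exists_generators [LocallyOfFiniteType f] {U : X.Opens} (hU : IsAffineOpen U) :
    ∃ G : Finset Γ(X, U), Subring.closure (Set.range (const f U) ∪ G) = ⊤ := by
  have h : (f.appLE ⊤ U le_top).hom.FiniteType :=
    HasRingHomProperty.appLE @LocallyOfFiniteType f inferInstance ⟨⊤, isAffineOpen_top _⟩ ⟨U, hU⟩ le_top
  algebraize [(f.appLE ⊤ U le_top).hom]
  obtain ⟨G, hG⟩ := Algebra.FiniteType.out (R := Γ(Spec (CommRingCat.of k), ⊤)) (A := Γ(X, U))
  refine ⟨G, ?_⟩
  have h2 := congrArg Subalgebra.toSubring hG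
  rw [Algebra.top_toSubring] at h2
  rw [← h2, Algebra.adjoin_eq_ring_closure]
  congr 2
  ext r
  constructor
  · rintro ⟨c, rfl⟩
    exact ⟨(Scheme.ΓSpecIso (CommRingCat.of k)).inv c, rfl⟩
  · rintro ⟨c, rfl⟩
    refine ⟨(Scheme.ΓSpecIso (CommRingCat.of k)).hom c, ?_⟩
    show (f.appLE ⊤ U le_top) ((Scheme.ΓSpecIso (CommRingCat.of k)).inv ((Scheme.ΓSpecIso _).hom c)) = _
    simp
    rfl

/-- **Finite orbits.** -/
theorem finite_orbit (p : ℕ) [Fact p.Prime] [CharP k p] (halg : ∀ x : k, ∃ n : ℕ, 0 < n ∧ x ^ (p ^ n) = x)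
    [CompactSpace X] [LocallyOfFiniteType f] (τ : X ⟶ X) (hτ : τ ≫ f = f) (x₀ : Pts f) :
    ∃ S : Set (Pts f), S.Finite ∧ x₀ ∈ S ∧
      ∀ x ∈ S, (⟨x.1 ≫ τ, by rw [Category.assoc, hτ]; exact x.2⟩ : Pts f) ∈ S := by
  classical
  let 𝒰 := X.affineCover.finiteSubcover
  let U : 𝒰.I₀ → X.Opens := fun i => (𝒰.f i).opensRange
  haveI : ∀ i, IsAffine (𝒰.X i) := fun i => inferInstanceAs (IsAffine (X.affineCover.X _))
  have hU : ∀ i, IsAffineOpen (U i) := fun i => isAffineOpen_opensRange _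
  have hcov : ∀ y : X, ∃ i, y ∈ U i := fun y => ⟨_, 𝒰.covers y⟩
  choose G hG using fun i => exists_generators (f := f) (hU i)
  -- refine the preimages of the charts
  have hbas : ∀ i, ∀ y : U i, ∃ (l : 𝒰.I₀) (h : Γ(X, U i)), (y : X) ∈ X.basicOpen h ∧ X.basicOpen h ≤ τ ⁻¹ᵁ U l := by
    intro i y
    obtain ⟨l, hl⟩ := hcov (τ y.1)
    obtain ⟨h, hh, hyh⟩ := (hU i).exists_basicOpen_le (V := τ ⁻¹ᵁ U l) ⟨y.1, hl⟩ y.2
    exact ⟨l, h, hyh, hh⟩
  choose l h hy hle using hbas
  have hfin : ∀ i, ∃ s : Finset (U i), ∀ z ∈ U i, ∃ y ∈ s, z ∈ X.basicOpen (h i y) := by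
    intro i
    obtain ⟨s, hs⟩ := (hU i).isCompact.elim_finite_subcover (fun y : U i => (X.basicOpen (h i y) : Set X))
      (fun y => (X.basicOpen (h i y)).2) fun z hz => Set.mem_iUnion.2 ⟨⟨z, hz⟩, hy i ⟨z, hz⟩⟩
    refine ⟨s, fun z hz => ?_⟩
    obtain ⟨y, hy⟩ := Set.mem_iUnion.1 (hs hz)
    exact ⟨y, (Set.mem_iUnion.1 hy).1, (Set.mem_iUnion.1 hy).2⟩
  choose s hs using hfin
  -- control of the coordinates of the image
  have hctl : ∀ i, ∀ y : U i, ∀ r : Γ(X, U (l i y)), ∃ C : Finset k, ∀ F : Subfield k, (↑C : Set k) ⊆ F →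
      ∀ (x : Pts f) (hx : x.pt ∈ U i) (hD : x.pt ∈ X.basicOpen (h i y)),
        (∀ t ∈ G i, val x hx t ∈ F) → val x hD ((τ.appLE _ _ (hle i y)).hom r) ∈ F := by
    intro i y r
    haveI := (hU i).isLocalization_basicOpen (h i y)
    obtain ⟨m, a, ha⟩ := IsLocalization.Away.surj (h i y) ((τ.appLE _ _ (hle i y)).hom r)
    obtain ⟨C, hC⟩ := exists_control (G i) (hG i) a
    obtain ⟨D, hD'⟩ := exists_control (G i) (hG i) (h i y)
    refine ⟨C ∪ D, fun F hF x hx hD hxG => ?_⟩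
    rw [Finset.coe_union, Set.union_subset_iff] at hF
    have e := congrArg (val x hD) ha
    rw [RingHom.algebraMap_toAlgebra, map_mul, map_pow, val_res, val_res] at e
    have hne : val x hx (h i y) ≠ 0 := by
      rw [← val_res x (X.basicOpen_le (h i y)) hD]
      exact (IsLocalization.Away.algebraMap_isUnit (S := Γ(X, X.basicOpen (h i y))) (h i y)).map (val x hD) |>.ne_zero
    rw [eq_div_iff (pow_ne_zero _ hne) |>.2 e]
    exact F.div_mem (hC F hF.1 x hx hxG) (F.pow_mem (hD' F hF.2 x hx hxG) m)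
  choose C hC using hctl
  have hfinite : ∀ (F : Set k), F.Finite → ∀ i, {x : Pts f | ∃ hx : x.pt ∈ U i, ∀ r ∈ G i, val x hx r ∈ F}.Finite := by
    intro F hF i
    haveI := hF.to_subtype
    refine Set.finite_coe_iff.1 (Finite.of_injective
      (fun (x : {x : Pts f | ∃ hx : x.pt ∈ U i, ∀ r ∈ G i, val x hx r ∈ F}) =>
        fun r : G i => (⟨val x.1 x.2.1 r.1, x.2.2 r.1 r.2⟩ : F)) fun x y hxy => Subtype.ext ?_)
    refine eq_of_val (hU i) _ _ x.2.1 y.2.1 fun r => ?_
    have hr : r ∈ Subring.closure (Set.range (const f (U i)) ∪ G i) := hG i ▸ trivial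
    exact RingHom.eqOn_set_closure (f := val x.1 x.2.1) (g := val y.1 y.2.1) (fun t ht => by
      rcases ht with ⟨c, rfl⟩ | ht
      · rw [val_const, val_const]
      · exact congrArg Subtype.val (congrFun hxy ⟨t, ht⟩)) hr
  obtain ⟨i₀, hi₀⟩ := hcov x₀.pt
  let C₀ : Finset k := (G i₀).image (val x₀ hi₀) ∪
    Finset.univ.biUnion fun i => (s i).biUnion fun y => (G (l i y)).biUnion fun r => C i y r
  choose n hn hfix using halg
  let N := ∏ c ∈ C₀, n c
  have hN : 0 < N := Finset.prod_pos fun c _ => hn c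
  haveI : ExpChar k p := ExpChar.prime Fact.out
  let F : Subfield k := (iterateFrobenius k p N).eqLocusField (RingHom.id k)
  have hmem : ∀ c : k, c ∈ F ↔ c ^ (p ^ N) = c := fun c => Iff.rfl
  have hCF : (↑C₀ : Set k) ⊆ F := fun c hc => by
    rw [SetLike.mem_coe, hmem]
    obtain ⟨q, hq⟩ : n c ∣ N := Finset.dvd_prod_of_mem _ hc
    rw [hq]
    clear hq
    induction q with
    | zero => rw [mul_zero, pow_zero, pow_one]
    | succ q ih => rw [Nat.mul_succ, pow_add, pow_mul, ih, hfix]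
  have hFfin : (F : Set k).Finite := by
    have h1 : 1 < p ^ N := Nat.one_lt_pow hN.ne' (Fact.out : p.Prime).one_lt
    refine (Polynomial.finite_setOf_isRoot (FiniteField.X_pow_card_sub_X_ne_zero k h1)).subset fun c hc => ?_
    simp [Polynomial.IsRoot, (hmem c).1 hc]
  refine ⟨ptsIn f U G F, ?_, ⟨i₀, hi₀, fun r hr => hCF (Finset.mem_union_left _ (Finset.mem_image_of_mem _ hr))⟩, ?_⟩
  · haveI := hFfin.to_subtype
    refine (Set.finite_iUnion fun i => hfinite F hFfin i).subset (fun x hx => Set.mem_iUnion.2 hx)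
  · rintro x ⟨i, hx, hxG⟩
    obtain ⟨y, hys, hxy⟩ := hs i x.pt hx
    refine ⟨l i y, hle i y hxy, fun r hr => ?_⟩
    rw [val_appLE x hτ (hle i y) hxy r]
    refine hC i y r F (fun c hc => hCF ?_) x hx hxy hxG
    exact Finset.mem_union_right _ (Finset.mem_biUnion.2 ⟨i, Finset.mem_univ _,
      Finset.mem_biUnion.2 ⟨y, hys, Finset.mem_biUnion.2 ⟨r, hr, hc⟩⟩⟩)

end Groth.Agent.FiniteOrbit
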